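import Cfsg.Agent.H12.CSix.Pairs
import Mathlib.GroupTheory.NoncommPiCoprod
import Mathlib.LinearAlgebra.Dimension.Finrank

/-!
# The basis attached to anticommuting pairs of involutions

From `k` pairs one gets `2^k` vectors permuted by the first members and scaled by signs by the second ones;
for a hermitian form preserved by the pairs they can be made orthonormal.
-/

set_option autoImplicit false

namespace Cfsg.Agent.H12.CSix

open Matrix Cfsg.Geo

variable {ι : Type} [Fintype ι] [DecidableEq ι] {F : Type*} [Field F]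

local notation "Mat" => Matrix ι ι F

/-- The sign of a bit. -/
def bsign (b : ZMod 2) : F := if b = 0 then 1 else -1

theorem bsign_zero : (bsign 0 : F) = 1 := if_pos rfl

theorem bsign_one : (bsign 1 : F) = -1 := if_neg one_ne_zero

theorem bit_cases : ∀ b : ZMod 2, b = 0 ∨ b = 1 := by decide

theorem bsign_add (a b : ZMod 2) : (bsign (a + b) : F) = bsign a * bsign b := by
  rcases bit_cases a with rfl | rfl <;> rcases bit_cases b with rfl | rfl <;>
    simp [bsign, show (1 : ZMod 2) + 1 = 0 by decide]

theorem bsign_sq (a : ZMod 2) : (bsign a : F) * bsign a = 1 := by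
  rcases bit_cases a with rfl | rfl <;> simp [bsign]

theorem bsign_ne (h2 : (2 : F) ≠ 0) {a b : ZMod 2} (h : a ≠ b) : (bsign a : F) ≠ bsign b := by
  rcases bit_cases a with rfl | rfl <;> rcases bit_cases b with rfl | rfl <;> simp [bsign] at h ⊢ <;>
    intro e <;> first | exact h2 (by linear_combination e) | exact h2 (by linear_combination -e)

section

variable {R : Subgroup (GL ι F)} {k : ℕ} {x z : Fin k → GL ι F}

/-- A vector fixed by all second members. -/
theorem Pairs.exists_fixed [Nonempty ι] (hP : Pairs R x z) : ∃ v : ι → F, v ≠ 0 ∧ ∀ a, (z a : Mat) *ᵥ v = v := by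
  suffices h : ∀ m : ℕ, ∃ v : ι → F, v ≠ 0 ∧ ∀ a : Fin k, (a : ℕ) < m → (z a : Mat) *ᵥ v = v by
    obtain ⟨v, hv, h'⟩ := h k
    exact ⟨v, hv, fun a => h' a a.2⟩
  intro m
  induction m with
  | zero =>
    obtain ⟨j⟩ := ‹Nonempty ι›
    exact ⟨Pi.single j 1, fun h => one_ne_zero (α := F) (by simpa using congrFun h j), fun a h => absurd h (Nat.not_lt_zero _)⟩
  | succ m ih =>
    obtain ⟨v, hv, hm⟩ := ih
    by_cases hk : m < k
    swap
    · exact ⟨v, hv, fun a _ => hm a (lt_of_lt_of_le a.2 (by omega))⟩
    set b : Fin k := ⟨m, hk⟩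
    have hlt : ∀ a : Fin k, (a : ℕ) < m + 1 → a = b ∨ ((a : ℕ) < m ∧ a ≠ b) := fun a ha => by
      rcases Nat.lt_succ_iff_lt_or_eq.1 ha with h | h
      · exact .inr ⟨h, fun e => by subst e; exact lt_irrefl m h⟩
      · exact .inl (Fin.ext h)
    by_cases hw : v + (z b : Mat) *ᵥ v = 0
    · refine ⟨(x b : Mat) *ᵥ v, fun h => hv ?_, fun a ha => ?_⟩
      · have := congrArg ((x b : Mat) *ᵥ ·) h
        simpa [Matrix.mulVec_mulVec, ← Units.val_mul, hP.xx b] using this
      · rcases hlt a ha with rfl | ⟨ha', hab⟩
        · have hz : (z b : Mat) *ᵥ v = -v := eq_neg_of_add_eq_zero_right hw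
          rw [Matrix.mulVec_mulVec, ← Units.val_mul, anti_symm (hP.anti b), Units.val_neg, Units.val_mul,
            Matrix.neg_mulVec, ← Matrix.mulVec_mulVec, hz, Matrix.mulVec_neg, neg_neg]
        · rw [Matrix.mulVec_mulVec, ← Units.val_mul, ← (hP.cxz b a (Ne.symm hab)).eq, Units.val_mul,
            ← Matrix.mulVec_mulVec, hm a ha']
    · refine ⟨v + (z b : Mat) *ᵥ v, hw, fun a ha => ?_⟩
      rcases hlt a ha with rfl | ⟨ha', -⟩
      · rw [Matrix.mulVec_add, Matrix.mulVec_mulVec, ← Units.val_mul, hP.zz b, Units.val_one, Matrix.one_mulVec,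
          add_comm]
      · rw [Matrix.mulVec_add, hm a ha', Matrix.mulVec_mulVec, ← Units.val_mul, (hP.czz a b).eq, Units.val_mul,
          ← Matrix.mulVec_mulVec, hm a ha']

/-- The vectors permuted by the first members and scaled by the second ones. -/
theorem Pairs.exists_orbit [Nonempty ι] (hP : Pairs R x z) :
    ∃ B : (Fin k → ZMod 2) → ι → F, (∀ s, B s ≠ 0) ∧
      (∀ a s, (x a : Mat) *ᵥ B s = B (s + Pi.single a 1)) ∧
      ∀ a s, (z a : Mat) *ᵥ B s = (bsign (s a) : F) • B s := by
  classical
  obtain ⟨v, hv, hzv⟩ := hP.exists_fixed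
  let φ : ∀ _ : Fin k, Multiplicative (ZMod 2) →* GL ι F := fun a =>
    { toFun := fun b => if Multiplicative.toAdd b = 0 then 1 else x a
      map_one' := by simp
      map_mul' := fun b c => by
        rcases bit_cases (Multiplicative.toAdd b) with hb | hb <;>
          rcases bit_cases (Multiplicative.toAdd c) with hc | hc <;>
          simp [toAdd_mul, hb, hc, hP.xx a, show (1 : ZMod 2) + 1 = 0 by decide] }
  have hcomm : Pairwise fun a b => ∀ p q, Commute (φ a p) (φ b q) := fun a b _ p q => by
    show Commute (if _ then _ else _) (if _ then _ else _)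
    split_ifs
    exacts [Commute.one_left _, Commute.one_left _, Commute.one_right _, hP.cxx a b]
  let Φ : (Fin k → Multiplicative (ZMod 2)) →* GL ι F := MonoidHom.noncommPiCoprod φ hcomm
  let tom : (Fin k → ZMod 2) → Fin k → Multiplicative (ZMod 2) := fun s a => Multiplicative.ofAdd (s a)
  have hΦ1 : ∀ a, Φ (Pi.mulSingle a (Multiplicative.ofAdd 1)) = x a := fun a => by
    simp [Φ, φ, MonoidHom.noncommPiCoprod_mulSingle]
  have hz : ∀ (a : Fin k) (t : Fin k → Multiplicative (ZMod 2)),
      (z a : Mat) * (Φ t : Mat) = (bsign (Multiplicative.toAdd (t a)) : F) • ((Φ t : Mat) * (z a : Mat)) := by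
    intro a t
    rw [← Finset.univ_prod_mulSingle t]
    induction (Finset.univ : Finset (Fin k)) using Finset.induction with
    | empty => simp [bsign]
    | insert b S hb ih =>
      rw [Finset.prod_insert hb, map_mul, Units.val_mul, Pi.mul_apply, toAdd_mul, bsign_add]
      have h1 : (z a : Mat) * (Φ (Pi.mulSingle b (t b)) : Mat) =
          (bsign (Multiplicative.toAdd ((Pi.mulSingle b (t b) : Fin k → Multiplicative (ZMod 2)) a)) : F) •
            ((Φ (Pi.mulSingle b (t b)) : Mat) * (z a : Mat)) := by
        have hb' : Φ (Pi.mulSingle b (t b)) = if Multiplicative.toAdd (t b) = 0 then 1 else x b := by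
          simp [Φ, φ, MonoidHom.noncommPiCoprod_mulSingle]
        rw [hb']
        rcases bit_cases (Multiplicative.toAdd (t b)) with h | h
        · rw [if_pos h, Units.val_one, mul_one, one_mul]
          by_cases hab : a = b
          · subst hab; rw [Pi.mulSingle_eq_same, h, bsign_zero, one_smul]
          · rw [Pi.mulSingle_eq_of_ne hab, toAdd_one, bsign_zero, one_smul]
        · rw [if_neg (by rw [h]; exact one_ne_zero)]
          by_cases hab : a = b
          · subst hab
            rw [Pi.mulSingle_eq_same, h, bsign_one, neg_smul, one_smul, ← Units.val_mul, anti_symm (hP.anti a),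
              Units.val_neg, Units.val_mul]
          · rw [Pi.mulSingle_eq_of_ne hab, toAdd_one, bsign_zero, one_smul, ← Units.val_mul,
              ← (hP.cxz b a (Ne.symm hab)).eq, Units.val_mul]
      rw [← mul_assoc, h1, Matrix.smul_mul, mul_assoc, ih, Matrix.mul_smul, smul_smul, mul_assoc]
  refine ⟨fun s => (Φ (tom s) : Mat) *ᵥ v, fun s h => hv ?_, fun a s => ?_, fun a s => ?_⟩
  · have h' := congrArg (((Φ (tom s))⁻¹ : GL ι F) : Mat).mulVec h
    rwa [Matrix.mulVec_mulVec, ← Units.val_mul, inv_mul_cancel, Units.val_one, Matrix.one_mulVec,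
      Matrix.mulVec_zero] at h'
  · have : tom (s + Pi.single a 1) = Pi.mulSingle a (Multiplicative.ofAdd 1) * tom s := by
      funext b
      by_cases h : b = a
      · subst h; simp [tom, ofAdd_add, mul_comm]
      · simp [tom, Pi.single_eq_of_ne h, Pi.mulSingle_eq_of_ne h]
    show _ = (Φ (tom (s + Pi.single a 1)) : Mat) *ᵥ v
    rw [Matrix.mulVec_mulVec, ← Units.val_mul, this, map_mul, hΦ1]
  · rw [Matrix.mulVec_mulVec, hz a (tom s), Matrix.smul_mulVec, ← Matrix.mulVec_mulVec, hzv a]
    rfl

/-- With as many vectors as coordinates they are independent. -/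
theorem linearIndependent_orbit (h2 : (2 : F) ≠ 0) {B : (Fin k → ZMod 2) → ι → F} (hB : ∀ s, B s ≠ 0)
    (hz : ∀ a s, (z a : Mat) *ᵥ B s = (bsign (s a) : F) • B s) : LinearIndependent F B := by
  classical
  rw [linearIndependent_iff']
  intro S
  induction S using Finset.induction with
  | empty => simp
  | insert t S ht ih =>
    intro g hg
    rw [Finset.sum_insert ht] at hg
    -- separate the coefficient at `t` from each other one
    have hS : ∀ s ∈ S, g s = 0 := by
      intro s hs
      obtain ⟨a, ha⟩ := Function.ne_iff.1 (fun e : s = t => ht (e ▸ hs))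
      have h := congrArg (fun w => (z a : Mat) *ᵥ w - (bsign (t a) : F) • w) hg
      simp only [Matrix.mulVec_add, Matrix.mulVec_sum, Matrix.mulVec_smul, hz, smul_add, Finset.smul_sum,
        smul_smul, Matrix.mulVec_zero, smul_zero, sub_zero] at h
      rw [mul_comm (g t), add_sub_add_left_eq_sub, ← Finset.sum_sub_distrib] at h
      have h' : ∑ u ∈ S, (g u * bsign (u a) - bsign (t a) * g u) • B u = 0 := by
        rw [← h]; exact Finset.sum_congr rfl fun u _ => sub_smul _ _ _
      have := ih _ h' s hs
      rw [mul_comm (g s), ← sub_mul] at this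
      exact (mul_eq_zero.1 this).resolve_left (sub_ne_zero.2 (bsign_ne h2 ha))
    intro s hs
    rcases Finset.mem_insert.1 hs with rfl | h
    · rw [Finset.sum_eq_zero (fun u hu => by rw [hS u hu, zero_smul]), add_zero] at hg
      exact (smul_eq_zero.1 hg).resolve_right (hB s)
    · exact hS s h

end

end Cfsg.Agent.H12.CSix
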