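import Cfsg.Agent.H63.UDec.Up

/-!
Transvections on one coordinate pair together with enough monomial elements give the special unitary group.
-/

set_option autoImplicit false

namespace Cfsg.Agent.H12.CSix

open scoped MatrixGroups Matrix
open Finset Matrix Cfsg Cfsg.Agent.H95 Cfsg.Agent.Symplectic Cfsg.Agent.H63.UDec

variable {F : Type*} [Field F] [Fintype F] {n q : ℕ} {σ : F ≃+* F}
variable {hf : Geo.IsUnitaryForm σ (hermForm n F q)} {M : Subgroup (GL (Fin n) F)}

omit [Fintype F] in
/-- Two non-orthogonal transvection vectors on a pair give the whole pair. -/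
theorem pair_of_two (hσ : ∀ x, σ x = x ^ q) (hM : M ≤ isoGrp (hermForm n F q)) {a b : Fin n} (hab : a ≠ b)
    {u w : Fin n → F} (hu : ∀ i, i ≠ a → i ≠ b → u i = 0) (hw : ∀ i, i ≠ a → i ≠ b → w i = 0)
    (huu : hermForm n F q u u = 0) (hww : hermForm n F q w w = 0) (hwu : hermForm n F q w u ≠ 0)
    (hU : UtIn hf M u) (hW : UtIn hf M w) : Pair hf M a b := by
  intro v hv hvv
  have huw : hermForm n F q u w ≠ 0 := fun h => hwu (u_symm_zero hf h)
  have nu : u a * σ (u a) + u b * σ (u b) = 0 := by rw [← norm_two hσ hab hu u, huu]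
  have hua : u a ≠ 0 := by
    intro h
    have hub : u b = 0 := by simpa [h, map_eq_zero] using nu
    refine hwu ?_
    rw [norm_two hσ hab hw u, h, hub, map_zero, mul_zero, mul_zero, add_zero]
  have hub : u b ≠ 0 := fun h => hua (by simpa [h, map_eq_zero] using nu)
  set β := hermForm n F q v u / hermForm n F q w u with hβ
  set w' := v - β • w with hw'
  have h0 : hermForm n F q w' u = 0 := by
    rw [hw', u_sub_left hf, u_smul_left hf, hβ, div_mul_cancel₀ _ hwu, sub_self]
  have hw's : ∀ i, i ≠ a → i ≠ b → w' i = 0 := fun i h1 h2 => by simp [hw', hv i h1 h2, hw i h1 h2]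
  rw [norm_two hσ hab hw's u] at h0
  set α := w' a / u a with hα
  have hcomb : v = α • u + β • w := by
    have : w' = α • u := by
      funext i
      rw [Pi.smul_apply, smul_eq_mul]
      rcases eq_or_ne i a with rfl | h1
      · rw [hα, div_mul_cancel₀ _ hua]
      rcases eq_or_ne i b with rfl | h2
      · have hσb : σ (u i) ≠ 0 := by simpa using hub
        have key : w' i * u a = w' a * u i :=
          mul_right_cancel₀ hσb (by linear_combination (u a) * h0 - (w' a) * nu)
        rw [hα, div_mul_eq_mul_div, eq_div_iff hua]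
        exact key
      rw [hw's i h1 h2, hu i h1 h2, mul_zero]
    rw [← this, hw', sub_add_cancel]
  by_cases hβ0 : β = 0
  · rw [hcomb, hβ0, zero_smul, add_zero]
    exact hU.smul hf huu α
  set γ := α / β with hγ
  have hv' : v = β • (w + γ • u) := by
    rw [hcomb, smul_add, smul_smul, hγ, mul_div_cancel₀ _ hβ0, add_comm]
  have hiso : hermForm n F q (w + γ • u) (w + γ • u) = 0 := by
    have := hvv
    rw [hv', u_smul_left hf, u_smul_right hf, ← mul_assoc] at this
    exact (mul_eq_zero.1 this).resolve_left (mul_ne_zero hβ0 (by simpa using hβ0))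
  set c := γ / hermForm n F q w u with hc
  have hσc : σ c = -c := by
    have h1 := hiso
    rw [u_add_left hf, u_add_right hf, u_add_right hf, u_smul_left hf, u_smul_right hf, u_smul_left hf,
      u_smul_right hf, hww, huu] at h1
    rw [hc, map_div₀, u_conj hf]
    field_simp
    linear_combination h1
  rw [hv']
  refine UtIn.smul hf hiso ?_ β
  have := hW.conj hf hww (hU c hσc) (ut_mem_iso hf huu hσc)
  rwa [ut_mulVec hf huu, hc, div_mul_cancel₀ _ hwu] at this

/-- One pair and monomial elements moving it everywhere give the special unitary group. -/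
theorem su_le_of_pair (hF : Fintype.card F = q ^ 2) (hq : 3 ≤ q) (hn : 4 ≤ n) (hσ : ∀ x, σ x = x ^ q)
    (hM : M ≤ isoGrp (hermForm n F q)) {a₀ b₀ : Fin n} (hP : Pair hf M a₀ b₀)
    (hmove : ∀ a b : Fin n, a ≠ b → ∃ g ∈ M, ∃ c d : F, c ≠ 0 ∧ d ≠ 0 ∧
      (g : Matrix (Fin n) (Fin n) F) *ᵥ Pi.single a₀ 1 = c • (Pi.single a 1 : Fin n → F) ∧
      (g : Matrix (Fin n) (Fin n) F) *ᵥ Pi.single b₀ 1 = d • (Pi.single b 1 : Fin n → F)) :
    GU n F q ⊓ Geo.specialLinear (Fin n) F ≤ M := by
  classical
  refine su_le_of_ut hF hn hσ hf (utIn_all hF hq hσ hM fun a b hab v hv hvv => ?_)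
  obtain ⟨g, hg, c, d, hc, hd, hga, hgb⟩ := hmove a b hab
  have hveq : v = (v a) • (Pi.single a 1 : Fin n → F) + (v b) • (Pi.single b 1 : Fin n → F) := by
    funext i
    rcases eq_or_ne i a with rfl | h1
    · simp [Pi.single_eq_of_ne hab]
    rcases eq_or_ne i b with rfl | h2
    · simp [Pi.single_eq_of_ne (Ne.symm hab)]
    simp [Pi.single_eq_of_ne h1, Pi.single_eq_of_ne h2, hv i h1 h2]
  set v' : Fin n → F := (v a / c) • Pi.single a₀ 1 + (v b / d) • Pi.single b₀ 1 with hv'
  have hgv : (g : Matrix (Fin n) (Fin n) F) *ᵥ v' = v := by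
    rw [hv', mulVec_add, mulVec_smul, mulVec_smul, hga, hgb, smul_smul, smul_smul, div_mul_cancel₀ _ hc,
      div_mul_cancel₀ _ hd, ← hveq]
  have hv'v : hermForm n F q v' v' = 0 := by rw [← mem_isoGrp.1 (hM hg) v' v', hgv, hvv]
  rw [← hgv]
  exact (hP v' (fun i h1 h2 => by simp [hv', Pi.single_eq_of_ne h1, Pi.single_eq_of_ne h2]) hv'v).conj hf hv'v hg
    (hM hg)

end Cfsg.Agent.H12.CSix
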