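import Cfsg.Prelude.Def_GeometricClasses
import Cfsg.Agent.H46.SympExpFour

/-!
# Anticommuting pairs of involutions in a 2-group of symplectic type with centre of order four

A group `R ≤ GL(ι, F)`, absolutely irreducible, of order `4^(k+1)`, exponent four and centre of order four is
generated by the scalars of order four and `k` mutually commuting pairs of anticommuting involutions.
-/

set_option autoImplicit false

namespace Cfsg.Agent.H12.CSix

open Matrix Cfsg.Geo

variable {ι : Type} [Fintype ι] [DecidableEq ι] {F : Type*} [Field F]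

local notation "Mat" => Matrix ι ι F

/-- A scalar matrix. -/
def IsScal (g : GL ι F) : Prop := ∃ c : F, (g : Mat) = c • 1

theorem IsScal.commute {g : GL ι F} (hg : IsScal g) (h : GL ι F) : Commute g h := by
  obtain ⟨c, hc⟩ := hg
  refine Units.ext ?_
  rw [Units.val_mul, Units.val_mul, hc, Matrix.smul_mul, Matrix.mul_smul, one_mul, mul_one]

theorem IsScal.mul {g h : GL ι F} (hg : IsScal g) (hh : IsScal h) : IsScal (g * h) := by
  obtain ⟨a, ha⟩ := hg
  obtain ⟨b, hb⟩ := hh
  exact ⟨a * b, by rw [Units.val_mul, ha, hb, Matrix.smul_mul, Matrix.mul_smul, smul_smul, one_mul]⟩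

theorem scal_inj [Nonempty ι] {a b : F} (h : a • (1 : Mat) = b • 1) : a = b := by
  obtain ⟨j⟩ := ‹Nonempty ι›
  simpa using congrFun (congrFun h j) j

/-- The facts used about `R`. -/
structure SData (R : Subgroup (GL ι F)) (i : F) : Prop where
  two : (2 : F) ≠ 0
  i_sq : i * i = -1
  imem : ∀ g : GL ι F, (g : Mat) = i • 1 → g ∈ R
  scal : ∀ g ∈ R, ∀ c : F, (g : Mat) = c • 1 → c = 1 ∨ c = -1 ∨ c = i ∨ c = -i
  sq : ∀ g ∈ R, g * g = 1 ∨ g * g = -1
  comm : ∀ g ∈ R, ∀ h ∈ R, g * h = h * g ∨ g * h = -(h * g)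
  schur : ∀ M : Mat, (∀ g ∈ R, M * (g : Mat) = (g : Mat) * M) → ∃ c : F, M = c • 1

/-- The data from the defining predicates. -/
theorem exists_data [Nonempty ι] (h2 : (2 : F) ≠ 0) [Finite F]
    (R : Subgroup (GL ι F)) (hRs : IsSymplecticTypeGroup 2 R)
    (hRi : ActsAbsolutelyIrreducibly (matrixSet R))
    (hRZ : Nat.card (Subgroup.center R) = 4) :
    ∃ i : F, SData R i := by
  classical
  have h4 : ∀ a : R, a ^ 4 = 1 := fun a => by
    have h := Monoid.pow_exponent_eq_one a
    rwa [hRs.exponent_eq, show 2 * Nat.gcd 2 2 = 4 by norm_num] at h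
  have hsch : ∀ M : Mat, (∀ g ∈ R, M * (g : Mat) = (g : Mat) * M) → ∃ c : F, M = c • 1 := by
    intro M hM
    refine hRi.2 M ?_
    rintro _ ⟨g, hg, rfl⟩
    exact hM g hg
  let sc : Fˣ →* GL ι F := Units.map (Matrix.scalar ι : F →+* Mat).toMonoidHom
  have hsc : ∀ t : Fˣ, (sc t : Mat) = (t : F) • 1 := fun t => by simp [sc, Matrix.smul_one_eq_diagonal]
  have hinj : Function.Injective sc := fun a b h => Units.ext (scal_inj (by rw [← hsc, ← hsc, h]))
  have hne0 : ∀ (g : GL ι F) (c : F), (g : Mat) = c • 1 → c ≠ 0 := by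
    rintro g c hc rfl
    exact g.ne_zero (by rw [hc, zero_smul])
  let S : Subgroup Fˣ := R.comap sc
  have hS : Nat.card S = 4 := by
    rw [← hRZ]
    refine Nat.card_congr (Equiv.ofBijective (fun t => ⟨⟨sc t.1, t.2⟩, ?_⟩) ⟨?_, ?_⟩)
    · exact Subgroup.mem_center_iff.2 fun g =>
        Subtype.ext ((IsScal.commute ⟨_, hsc t.1⟩ (g : GL ι F)).eq.symm)
    · intro a b h
      exact Subtype.ext (hinj (congrArg Subtype.val (congrArg Subtype.val h)))
    · rintro ⟨⟨g, hg⟩, hz⟩
      obtain ⟨c, hc⟩ := hsch (g : Mat) fun x hx => by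
        have h := congrArg Subtype.val (Subgroup.mem_center_iff.1 hz ⟨x, hx⟩)
        exact (congrArg (fun a : GL ι F => (a : Mat)) h).symm
      have hgs : sc (Units.mk0 c (hne0 g c hc)) = g := Units.ext (by rw [hsc, hc]; rfl)
      refine ⟨⟨Units.mk0 c (hne0 g c hc), show sc _ ∈ R by rw [hgs]; exact hg⟩, ?_⟩
      exact Subtype.ext (Subtype.ext hgs)
  obtain ⟨t, ht⟩ := IsCyclic.exists_generator (α := S)
  have hto : orderOf t = 4 := (orderOf_eq_card_of_forall_mem_zpowers ht).trans hS
  have hi2 : ((t : Fˣ) : F) * ((t : Fˣ) : F) = -1 := by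
    have h1 : (((t : Fˣ) : F) * ((t : Fˣ) : F)) * (((t : Fˣ) : F) * ((t : Fˣ) : F)) = 1 := by
      have h := congrArg (fun a : S => ((a : Fˣ) : F)) (pow_orderOf_eq_one t)
      rw [hto] at h
      simp only [SubmonoidClass.coe_pow, Units.val_pow_eq_pow_val, OneMemClass.coe_one, Units.val_one] at h
      linear_combination h
    rcases mul_self_eq_one_iff.1 h1 with h | h
    · exfalso
      have h' : t ^ 2 = 1 := Subtype.ext (Units.ext (by
        simp only [SubmonoidClass.coe_pow, Units.val_pow_eq_pow_val, OneMemClass.coe_one, Units.val_one, pow_two]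
        exact h))
      have hd2 := orderOf_dvd_of_pow_eq_one h'
      rw [hto] at hd2
      norm_num at hd2
    · exact h
  have hsq : sc ((t : Fˣ) * t) ∈ R := (t * t).2
  have hneg : sc ((t : Fˣ) * t) = -1 := Units.ext (by
    rw [hsc, Units.val_mul, hi2, Units.val_neg, Units.val_one, neg_smul, one_smul])
  rw [hneg] at hsq
  set z : R := ⟨-1, hsq⟩ with hz
  have hzc : z ∈ Subgroup.center R := Subgroup.mem_center_iff.2 fun g => Subtype.ext (by
    show (g : GL ι F) * -1 = -1 * (g : GL ι F)
    rw [mul_neg_one, neg_one_mul])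
  have hne : (-1 : GL ι F) ≠ 1 := fun h => by
    have h' : (-1 : F) • (1 : Mat) = (1 : F) • 1 := by
      rw [neg_smul, one_smul]; exact congrArg Units.val h
    exact h2 (by linear_combination -(scal_inj h'))
  have hz2 : z ^ 2 = 1 := Subtype.ext (by simp [hz, pow_two])
  have hQ : Cfsg.IsOfSymplecticType R := ⟨hRs.pGroup, hRs.cyclic_of_characteristic⟩
  obtain ⟨⟨hsm, hcm⟩, -⟩ := H46.symp_exp_four hQ h4 hzc hz2 (fun h => hne (congrArg Subtype.val h))
  refine ⟨((t : Fˣ) : F), h2, hi2, fun g hg => ?_, fun g hg c hc => ?_, fun g hg => ?_,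
    fun g hg h hh => ?_, hsch⟩
  · have hgs : g = sc (t : Fˣ) := Units.ext (by rw [hsc, hg])
    rw [hgs]; exact t.2
  · have h := congrArg (fun a : GL ι F => (a : Mat)) (congrArg Subtype.val (h4 ⟨g, hg⟩))
    simp only [SubmonoidClass.coe_pow, Units.val_pow_eq_pow_val, OneMemClass.coe_one, Units.val_one, hc] at h
    rw [smul_pow, one_pow] at h
    have hc4 : c ^ 4 = 1 := scal_inj (h.trans (one_smul F _).symm)
    set w := ((t : Fˣ) : F)
    have : (c - 1) * (c + 1) * ((c - w) * (c + w)) = 0 := by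
      linear_combination hc4 - (c * c - 1) * hi2
    rcases mul_eq_zero.1 this with h' | h' <;> rcases mul_eq_zero.1 h' with h'' | h''
    · exact .inl (sub_eq_zero.1 h'')
    · exact .inr (.inl (eq_neg_of_add_eq_zero_left h''))
    · exact .inr (.inr (.inl (sub_eq_zero.1 h'')))
    · exact .inr (.inr (.inr (eq_neg_of_add_eq_zero_left h'')))
  · rcases hsm ⟨g, hg⟩ with e | e
    · exact Or.inl (by simpa [pow_two] using congrArg Subtype.val e)
    · exact Or.inr (by simpa [pow_two, hz] using congrArg Subtype.val e)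
  · rcases hcm ⟨g, hg⟩ ⟨h, hh⟩ with e | e
    · left
      have e' : g * h * g⁻¹ * h⁻¹ = 1 := congrArg Subtype.val e
      rw [mul_inv_eq_one, mul_inv_eq_iff_eq_mul] at e'
      exact e'
    · right
      have e' : g * h * g⁻¹ * h⁻¹ = -1 := congrArg Subtype.val e
      rw [mul_inv_eq_iff_eq_mul, mul_inv_eq_iff_eq_mul] at e'
      rw [e', neg_one_mul, neg_mul]

/-- `k` commuting pairs of anticommuting involutions. -/
structure Pairs (R : Subgroup (GL ι F)) {k : ℕ} (x z : Fin k → GL ι F) : Prop where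
  xmem : ∀ a, x a ∈ R
  zmem : ∀ a, z a ∈ R
  xx : ∀ a, x a * x a = 1
  zz : ∀ a, z a * z a = 1
  anti : ∀ a, x a * z a = -(z a * x a)
  cxx : ∀ a b, Commute (x a) (x b)
  czz : ∀ a b, Commute (z a) (z b)
  cxz : ∀ a b, a ≠ b → Commute (x a) (z b)

/-- The elements of `R` commuting with all pairs. -/
def Pairs.cent {R : Subgroup (GL ι F)} {k : ℕ} (x z : Fin k → GL ι F) : Subgroup (GL ι F) :=
  R ⊓ Subgroup.centralizer (Set.range x ∪ Set.range z)

theorem mem_cent {R : Subgroup (GL ι F)} {k : ℕ} {x z : Fin k → GL ι F} {g : GL ι F} :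
    g ∈ Pairs.cent (R := R) x z ↔ g ∈ R ∧ ∀ a, Commute g (x a) ∧ Commute g (z a) := by
  simp only [Pairs.cent, Subgroup.mem_inf, Subgroup.mem_centralizer_iff, Set.mem_union, Set.mem_range]
  refine and_congr_right fun _ => ⟨fun h a => ⟨(h _ (.inl ⟨a, rfl⟩)).symm, (h _ (.inr ⟨a, rfl⟩)).symm⟩, ?_⟩
  rintro h _ (⟨a, rfl⟩ | ⟨a, rfl⟩)
  · exact (h a).1.eq.symm
  · exact (h a).2.eq.symm

section Signs

variable {g u v w : GL ι F}

theorem anti_symm (h : u * v = -(v * u)) : v * u = -(u * v) := by rw [h, neg_neg]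

theorem anti_mul_anti (hu : u * w = -(w * u)) (hv : v * w = -(w * v)) : Commute (u * v) w := by
  show u * v * w = w * (u * v)
  rw [mul_assoc, hv, mul_neg, ← mul_assoc, hu, neg_mul, neg_neg, mul_assoc]

theorem anti_mul_comm (hu : u * w = -(w * u)) (hv : Commute v w) : (u * v) * w = -(w * (u * v)) := by
  rw [mul_assoc, hv.eq, ← mul_assoc, hu, neg_mul, mul_assoc]

theorem comm_mul_anti (hu : Commute u w) (hv : v * w = -(w * v)) : (u * v) * w = -(w * (u * v)) := by
  rw [mul_assoc, hv, mul_neg, ← mul_assoc, hu.eq, mul_assoc]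

theorem ne_neg_self [Nonempty ι] (h2 : (2 : F) ≠ 0) (g : GL ι F) : g ≠ -g := by
  intro he
  have h1 := congrArg (fun a : GL ι F => ((a * g⁻¹ : GL ι F) : Mat)) he
  simp only [mul_inv_cancel, Units.val_one, neg_mul, Units.val_neg] at h1
  have h' : (1 : F) • (1 : Mat) = (-1 : F) • 1 := by rw [neg_smul, one_smul]; exact h1
  exact h2 (by linear_combination (scal_inj h'))

theorem not_comm_of_anti [Nonempty ι] (h2 : (2 : F) ≠ 0) (h : u * v = -(v * u)) : ¬ Commute u v :=
  fun hc => ne_neg_self h2 (v * u) (hc.eq.symm.trans h)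

end Signs

variable {R : Subgroup (GL ι F)} {i : F}

namespace SData

theorem exists_invol [Nonempty ι] (hd : SData R i) {g : GL ι F} (hg : g ∈ R) :
    ∃ s h : GL ι F, IsScal s ∧ s ∈ R ∧ h = s * g ∧ h * h = 1 := by
  rcases hd.sq g hg with e | e
  · exact ⟨1, g, ⟨1, by rw [one_smul]; rfl⟩, one_mem _, (one_mul g).symm, e⟩
  have hi0 : i ≠ 0 := by
    rintro rfl
    exact one_ne_zero (show (1 : F) = 0 by linear_combination hd.i_sq)
  obtain ⟨t, ht⟩ : ∃ t : GL ι F, (t : Mat) = i • 1 :=
    ⟨Units.map (Matrix.scalar ι : F →+* Mat).toMonoidHom (Units.mk0 i hi0), by simp [Matrix.smul_one_eq_diagonal]⟩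
  have ht2 : t * t = -1 := Units.ext (by
    rw [Units.val_mul, ht, Matrix.smul_mul, Matrix.mul_smul, smul_smul, one_mul, hd.i_sq, Units.val_neg,
      Units.val_one, neg_smul, one_smul])
  refine ⟨t, t * g, ⟨i, ht⟩, hd.imem t ht, rfl, ?_⟩
  rw [(IsScal.commute ⟨i, ht⟩ g).symm.mul_mul_mul_comm, ht2, e, neg_mul_neg, one_mul]

end SData

/-- Every element of `R` is corrected into the centraliser of the pairs by an element generated by them. -/
theorem Pairs.exists_correct [Nonempty ι] (hd : SData R i) {k : ℕ} {x z : Fin k → GL ι F} (hP : Pairs R x z)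
    {g : GL ι F} (hg : g ∈ R) :
    ∃ w ∈ Subgroup.closure (Set.range x ∪ Set.range z), g * w ∈ Pairs.cent (R := R) x z := by
  classical
  have hle : Subgroup.closure (Set.range x ∪ Set.range z) ≤ R := by
    rw [Subgroup.closure_le]
    rintro _ (⟨a, rfl⟩ | ⟨a, rfl⟩)
    exacts [hP.xmem a, hP.zmem a]
  suffices h : ∀ S : Finset (Fin k), ∃ w ∈ Subgroup.closure (Set.range x ∪ Set.range z),
      ∀ a ∈ S, Commute (g * w) (x a) ∧ Commute (g * w) (z a) by
    obtain ⟨w, hw, h'⟩ := h Finset.univ
    exact ⟨w, hw, mem_cent.2 ⟨R.mul_mem hg (hle hw), fun a => h' a (Finset.mem_univ a)⟩⟩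
  intro S
  induction S using Finset.induction with
  | empty => exact ⟨1, one_mem _, by simp⟩
  | insert b S hb ih =>
    obtain ⟨w, hw, hS⟩ := ih
    have hx : x b ∈ Subgroup.closure (Set.range x ∪ Set.range z) := Subgroup.subset_closure (.inl ⟨b, rfl⟩)
    have hz : z b ∈ Subgroup.closure (Set.range x ∪ Set.range z) := Subgroup.subset_closure (.inr ⟨b, rfl⟩)
    have hgw : g * w ∈ R := R.mul_mem hg (hle hw)
    obtain ⟨c, hc, hcS, hcx, hcz⟩ : ∃ c ∈ Subgroup.closure (Set.range x ∪ Set.range z),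
        (∀ a, a ≠ b → Commute c (x a) ∧ Commute c (z a)) ∧
        Commute (g * w * c) (x b) ∧ Commute (g * w * c) (z b) := by
      rcases hd.comm _ hgw _ (hP.xmem b) with ea | ea <;> rcases hd.comm _ hgw _ (hP.zmem b) with eb | eb
      · exact ⟨1, one_mem _, fun a _ => ⟨Commute.one_left _, Commute.one_left _⟩,
          by rw [mul_one]; exact ⟨ea, eb⟩⟩
      · exact ⟨x b, hx, fun a ha => ⟨hP.cxx b a, hP.cxz b a (Ne.symm ha)⟩,
          (show Commute (g * w) (x b) from ea).mul_left (Commute.refl _), anti_mul_anti eb (hP.anti b)⟩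
      · exact ⟨z b, hz, fun a ha => ⟨(hP.cxz a b ha).symm, hP.czz b a⟩,
          anti_mul_anti ea (anti_symm (hP.anti b)),
          (show Commute (g * w) (z b) from eb).mul_left (Commute.refl _)⟩
      · refine ⟨x b * z b, mul_mem hx hz,
          fun a ha => ⟨(hP.cxx b a).mul_left (hP.cxz a b ha).symm,
            (hP.cxz b a (Ne.symm ha)).mul_left (hP.czz b a)⟩,
          anti_mul_anti ea (comm_mul_anti (Commute.refl _) (anti_symm (hP.anti b))),
          anti_mul_anti eb (anti_mul_comm (hP.anti b) (Commute.refl _))⟩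
    refine ⟨w * c, mul_mem hw hc, fun a ha => ?_⟩
    rw [← mul_assoc]
    rcases Finset.mem_insert.1 ha with rfl | ha'
    · exact ⟨hcx, hcz⟩
    · have hab : a ≠ b := fun e => hb (e ▸ ha')
      exact ⟨(hS a ha').1.mul_left (hcS a hab).1, (hS a ha').2.mul_left (hcS a hab).2⟩

/-- Enlarge the pairs; the centraliser shrinks by the factor four. -/
theorem Pairs.exists_succ [Nonempty ι] (hd : SData R i) {k : ℕ} {x z : Fin k → GL ι F} (hP : Pairs R x z)
    {g : GL ι F} (hg : g ∈ Pairs.cent (R := R) x z) (hgs : ¬ IsScal g) :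
    ∃ x' z' : Fin (k + 1) → GL ι F, Pairs R x' z' ∧
      4 * Nat.card (Pairs.cent (R := R) x' z') = Nat.card (Pairs.cent (R := R) x z) := by
  classical
  obtain ⟨hgR, hgc⟩ := mem_cent.1 hg
  obtain ⟨s, a, hs, hsR, hsa, haa⟩ := hd.exists_invol hgR
  have haR : a ∈ R := hsa ▸ R.mul_mem hsR hgR
  have hac : ∀ l, Commute a (x l) ∧ Commute a (z l) := fun l =>
    hsa ▸ ⟨(hs.commute _).mul_left (hgc l).1, (hs.commute _).mul_left (hgc l).2⟩
  obtain ⟨b0, hb0, hab0⟩ : ∃ b ∈ R, b * a = -(a * b) := by
    by_contra hcon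
    push Not at hcon
    obtain ⟨c, hc⟩ := hd.schur (a : Mat) fun y hy => by
      rcases hd.comm y hy a haR with h | h
      · exact (congrArg Units.val h).symm
      · exact absurd h (hcon y hy)
    refine hgs ?_
    obtain ⟨e, he⟩ := hs
    have he0 : e ≠ 0 := by rintro rfl; exact s.ne_zero (by rw [he, zero_smul])
    refine ⟨e⁻¹ * c, ?_⟩
    have : (a : Mat) = e • (g : Mat) := by rw [hsa, Units.val_mul, he, Matrix.smul_mul, one_mul]
    rw [← smul_smul, ← hc, this, smul_smul, inv_mul_cancel₀ he0, one_smul]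
  obtain ⟨w, hw, hbw⟩ := hP.exists_correct hd hb0
  have hwa : Commute w a := by
    have : Subgroup.closure (Set.range x ∪ Set.range z) ≤ Subgroup.centralizer {a} := by
      rw [Subgroup.closure_le]
      rintro _ (⟨l, rfl⟩ | ⟨l, rfl⟩) <;> rw [SetLike.mem_coe, Subgroup.mem_centralizer_iff] <;>
        rintro _ rfl
      exacts [(hac l).1.eq, (hac l).2.eq]
    exact ((Subgroup.mem_centralizer_iff.1 (this hw)) a rfl).symm
  obtain ⟨hbwR, hbwc⟩ := mem_cent.1 hbw
  obtain ⟨s', b, hs', hsR', hsb, hbb⟩ := hd.exists_invol hbwR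
  have hbR : b ∈ R := hsb ▸ R.mul_mem hsR' hbwR
  have hbc : ∀ l, Commute b (x l) ∧ Commute b (z l) := fun l =>
    hsb ▸ ⟨(hs'.commute _).mul_left (hbwc l).1, (hs'.commute _).mul_left (hbwc l).2⟩
  have hba : b * a = -(a * b) := hsb ▸ comm_mul_anti (hs'.commute a) (anti_mul_comm hab0 hwa)
  have haC : a ∈ Pairs.cent (R := R) x z := mem_cent.2 ⟨haR, hac⟩
  have hbC : b ∈ Pairs.cent (R := R) x z := mem_cent.2 ⟨hbR, hbc⟩
  set x' : Fin (k + 1) → GL ι F := Fin.cons a x with hx'
  set z' : Fin (k + 1) → GL ι F := Fin.cons b z with hz'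
  have hmem : ∀ {c : GL ι F}, c ∈ Pairs.cent (R := R) x' z' ↔
      c ∈ Pairs.cent (R := R) x z ∧ Commute c a ∧ Commute c b := by
    intro c
    rw [mem_cent, mem_cent, Fin.forall_fin_succ]
    simp only [hx', hz', Fin.cons_zero, Fin.cons_succ]
    tauto
  refine ⟨x', z', ?_, ?_⟩
  · refine ⟨?_, ?_, ?_, ?_, ?_, ?_, ?_, ?_⟩
    · exact Fin.cases (by simpa [hx'] using haR) (fun l => by simpa [hx'] using hP.xmem l)
    · exact Fin.cases (by simpa [hz'] using hbR) (fun l => by simpa [hz'] using hP.zmem l)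
    · exact Fin.cases (by simpa [hx'] using haa) (fun l => by simpa [hx'] using hP.xx l)
    · exact Fin.cases (by simpa [hz'] using hbb) (fun l => by simpa [hz'] using hP.zz l)
    · exact Fin.cases (by simpa [hx', hz'] using anti_symm hba) (fun l => by simpa [hx', hz'] using hP.anti l)
    · exact Fin.cases (Fin.cases (Commute.refl _) (fun l => by simpa [hx'] using (hac l).1))
        (fun l => Fin.cases (by simpa [hx'] using (hac l).1.symm) (fun m => by simpa [hx'] using hP.cxx l m))
    · exact Fin.cases (Fin.cases (Commute.refl _) (fun l => by simpa [hz'] using (hbc l).2))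
        (fun l => Fin.cases (by simpa [hz'] using (hbc l).2.symm) (fun m => by simpa [hz'] using hP.czz l m))
    · intro l m
      induction l using Fin.cases with
      | zero =>
        induction m using Fin.cases with
        | zero => exact fun h => absurd rfl h
        | succ m => intro _; simpa [hx', hz'] using (hac m).2
      | succ l =>
        induction m using Fin.cases with
        | zero => intro _; simpa [hx', hz'] using (hbc l).1.symm
        | succ m =>
          intro h
          simpa [hx', hz'] using hP.cxz l m fun e => h (congrArg Fin.succ e)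
  -- unique factorisation
  set C := Pairs.cent (R := R) x z
  set C' := Pairs.cent (R := R) x' z'
  let pw : Bool × Bool → GL ι F := fun st => (bif st.1 then a else 1) * (bif st.2 then b else 1)
  have hpw : ∀ st, pw st ∈ C := fun st => by
    rcases st with ⟨_ | _, _ | _⟩ <;> simp only [pw, cond_true, cond_false, one_mul, mul_one] <;>
      first | exact one_mem _ | exact haC | exact hbC | exact mul_mem haC hbC
  have hab := anti_symm hba
  let φ : C' × (Bool × Bool) → C := fun p => ⟨p.1.1 * pw p.2, mul_mem (hmem.1 p.1.2).1 (hpw p.2)⟩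
  have hφ : Function.Bijective φ := by
    constructor
    · rintro ⟨⟨c, hc⟩, st⟩ ⟨⟨d, hd'⟩, uv⟩ h
      have h' : c * pw st = d * pw uv := congrArg Subtype.val h
      obtain ⟨-, hca, hcb⟩ := hmem.1 hc
      obtain ⟨-, hda, hdb⟩ := hmem.1 hd'
      have n1 := not_comm_of_anti hd.two hab
      have n2 := not_comm_of_anti hd.two hba
      have n3 : ¬ Commute (a * b) a := not_comm_of_anti hd.two (comm_mul_anti (Commute.refl a) hba)
      have n4 : ¬ Commute (a * b) b := not_comm_of_anti hd.two (anti_mul_comm hab (Commute.refl b))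
      have key : ∀ u, Commute c u → Commute d u → (Commute (pw st) u ↔ Commute (pw uv) u) := fun u hcu hdu => by
        constructor <;> intro hu
        · have := hdu.inv_left.mul_left (hcu.mul_left hu)
          rwa [h', inv_mul_cancel_left] at this
        · have := hcu.inv_left.mul_left (hdu.mul_left hu)
          rwa [← h', inv_mul_cancel_left] at this
      have k1 := key a hca hda
      have k2 := key b hcb hdb
      have hst : st = uv := by
        rcases st with ⟨_ | _, _ | _⟩ <;> rcases uv with ⟨_ | _, _ | _⟩ <;>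
          simp only [pw, cond_true, cond_false, one_mul, mul_one, iff_false, false_iff, n1, n2, n3, n4,
            Commute.one_left, Commute.refl, true_iff, iff_true, not_true_eq_false] at k1 k2 ⊢
      subst hst
      exact Prod.ext (Subtype.ext (mul_right_cancel h')) rfl
    · rintro ⟨c, hc⟩
      obtain ⟨hcR, -⟩ := mem_cent.1 hc
      obtain ⟨st, h1, h2⟩ : ∃ st, Commute (c * (pw st)⁻¹) a ∧ Commute (c * (pw st)⁻¹) b := by
        have hai : a⁻¹ = a := inv_eq_of_mul_eq_one_right haa
        have hbi : b⁻¹ = b := inv_eq_of_mul_eq_one_right hbb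
        rcases hd.comm c hcR a haR with ea | ea <;> rcases hd.comm c hcR b hbR with eb | eb
        · exact ⟨(false, false), by simpa [pw] using And.intro (show Commute c a from ea) (show Commute c b from eb)⟩
        · refine ⟨(true, false), ?_⟩
          simp only [pw, cond_true, cond_false, mul_one, hai]
          exact ⟨(show Commute c a from ea).mul_left (Commute.refl _), anti_mul_anti eb hab⟩
        · refine ⟨(false, true), ?_⟩
          simp only [pw, cond_true, cond_false, one_mul, hbi]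
          exact ⟨anti_mul_anti ea hba, (show Commute c b from eb).mul_left (Commute.refl _)⟩
        · refine ⟨(true, true), ?_⟩
          simp only [pw, cond_true, _root_.mul_inv_rev, hai, hbi]
          exact ⟨anti_mul_anti ea (anti_mul_comm hba (Commute.refl a)),
            anti_mul_anti eb (comm_mul_anti (Commute.refl b) hab)⟩
      refine ⟨(⟨c * (pw st)⁻¹, hmem.2 ⟨mul_mem hc (inv_mem (hpw st)), h1, h2⟩⟩, st), Subtype.ext ?_⟩
      exact inv_mul_cancel_right c (pw st)
  rw [← Nat.card_congr (Equiv.ofBijective φ hφ), Nat.card_prod, Nat.card_prod, Nat.card_eq_fintype_card (α := Bool),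
    Fintype.card_bool, mul_comm]

/-- `R` of order `4^(k+1)` has `k` pairs with scalar centraliser. -/
theorem exists_pairs [Nonempty ι] (hd : SData R i) (hfin : Finite R) (k : ℕ) (hk : Nat.card R = 4 ^ (k + 1)) :
    ∃ x z : Fin k → GL ι F, Pairs R x z ∧
      ∀ g ∈ R, ∃ w ∈ Subgroup.closure (Set.range x ∪ Set.range z), IsScal (g * w) := by
  classical
  have hscard : ∀ C : Subgroup (GL ι F), C ≤ R → (∀ g ∈ C, IsScal g) → Nat.card C ≤ 4 := by
    intro C hC h
    let f : C → F := fun g => (h g g.2).choose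
    have hf : ∀ g : C, ((g : GL ι F) : Mat) = f g • 1 := fun g => (h g g.2).choose_spec
    have hfi : Function.Injective f := fun g g' e => Subtype.ext (Units.ext (by rw [hf, hf, e]))
    haveI : Finite C := Finite.of_injective (Subgroup.inclusion hC) (Subgroup.inclusion_injective hC)
    haveI := Fintype.ofFinite C
    have := Finset.card_le_card_of_injOn (s := (Finset.univ : Finset C)) (t := ({1, -1, i, -i} : Finset F)) f
      (fun g _ => by
        rcases hd.scal g (hC g.2) _ (hf g) with e | e | e | e <;> simp [e])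
      hfi.injOn
    rw [Nat.card_eq_fintype_card, ← Finset.card_univ]
    exact this.trans Finset.card_le_four
  have key : ∀ m, m ≤ k → ∃ x z : Fin m → GL ι F, Pairs R x z ∧
      4 ^ m * Nat.card (Pairs.cent (R := R) x z) = Nat.card R := by
    intro m
    induction m with
    | zero =>
      intro _
      refine ⟨Fin.elim0, Fin.elim0, ⟨fun a => a.elim0, fun a => a.elim0, fun a => a.elim0, fun a => a.elim0,
        fun a => a.elim0, fun a => a.elim0, fun a => a.elim0, fun a => a.elim0⟩, ?_⟩
      have : Pairs.cent (R := R) (Fin.elim0 : Fin 0 → GL ι F) Fin.elim0 = R := by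
        ext g
        rw [mem_cent]
        exact ⟨fun h => h.1, fun h => ⟨h, fun a => a.elim0⟩⟩
      rw [this, pow_zero, one_mul]
    | succ m ih =>
      intro hm
      obtain ⟨x, z, hP, hc⟩ := ih (by omega)
      obtain ⟨g, hg, hgs⟩ : ∃ g ∈ Pairs.cent (R := R) x z, ¬ IsScal g := by
        by_contra hcon
        push Not at hcon
        have h4 := hscard _ inf_le_left hcon
        rw [hk] at hc
        have : 4 ^ (k + 1) ≤ 4 ^ m * 4 := hc ▸ Nat.mul_le_mul_left _ h4
        rw [← pow_succ] at this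
        have := (Nat.pow_le_pow_iff_right (by norm_num)).1 this
        omega
      obtain ⟨x', z', hP', hc'⟩ := hP.exists_succ hd hg hgs
      exact ⟨x', z', hP', by rw [← hc, ← hc', pow_succ, mul_assoc]⟩
  obtain ⟨x, z, hP, hc⟩ := key k le_rfl
  rw [hk, pow_succ] at hc
  have h4 : Nat.card (Pairs.cent (R := R) x z) = 4 := Nat.eq_of_mul_eq_mul_left (by positivity) hc
  refine ⟨x, z, hP, fun g hg => ?_⟩
  obtain ⟨w, hw, hgw⟩ := hP.exists_correct hd hg
  refine ⟨w, hw, ?_⟩
  by_contra hns
  obtain ⟨x', z', -, h'⟩ := hP.exists_succ hd hgw hns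
  rw [h4] at h'
  -- the four scalars of order dividing four lie in the smaller centraliser
  have hi0 : i ≠ 0 := by
    rintro rfl
    exact one_ne_zero (show (1 : F) = 0 by linear_combination hd.i_sq)
  obtain ⟨t, ht⟩ : ∃ t : GL ι F, (t : Mat) = i • 1 :=
    ⟨Units.map (Matrix.scalar ι : F →+* Mat).toMonoidHom (Units.mk0 i hi0), by simp [Matrix.smul_one_eq_diagonal]⟩
  have htC : t ∈ Pairs.cent (R := R) x' z' :=
    mem_cent.2 ⟨hd.imem t ht, fun a => ⟨IsScal.commute ⟨i, ht⟩ _, IsScal.commute ⟨i, ht⟩ _⟩⟩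
  have h1 : Nat.card (Pairs.cent (R := R) x' z') = 1 := by omega
  have := Subgroup.eq_bot_of_card_eq _ h1
  rw [this, Subgroup.mem_bot] at htC
  rw [htC, Units.val_one] at ht
  have : (1 : F) = i := scal_inj (by rw [one_smul]; exact ht)
  exact hd.two (by subst this; linear_combination hd.i_sq)

end Cfsg.Agent.H12.CSix
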