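import Cfsg.Agent.H12.CSix.Basis
import Cfsg.Agent.Unitary.Form
import Cfsg.Agent.Unitary.Field

/-!
# An orthonormal basis attached to anticommuting pairs of unitary involutions
-/

set_option autoImplicit false

namespace Cfsg.Agent.H12.CSix

open Matrix Cfsg.Geo Cfsg.Agent.Unitary

variable {n k : ℕ} {F : Type*} [Field F] [Fintype F] {q : ℕ}

/-- The orthonormal orbit basis of pairs inside the unitary group. -/
theorem exists_orthonormal_orbit (hF : Fintype.card F = q ^ 2) (h2 : (2 : F) ≠ 0) (hn : n = 2 ^ k)
    {R : Subgroup (GL (Fin n) F)} (hRU : R ≤ GU n F q) {x z : Fin k → GL (Fin n) F} (hP : Pairs R x z) :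
    ∃ B : (Fin k → ZMod 2) → Fin n → F,
      (∀ s t, hermForm n F q (B s) (B t) = if s = t then 1 else 0) ∧
      (∀ a s, (x a : Matrix (Fin n) (Fin n) F) *ᵥ B s = B (s + Pi.single a 1)) ∧
      ∀ a s, (z a : Matrix (Fin n) (Fin n) F) *ᵥ B s = (bsign (s a) : F) • B s := by
  classical
  haveI : Nonempty (Fin n) := ⟨⟨0, by rw [hn]; positivity⟩⟩
  obtain ⟨B, hB0, hBx, hBz⟩ := hP.exists_orbit
  have hpres : ∀ g ∈ R, ∀ u v, hermForm n F q ((g : Matrix (Fin n) (Fin n) F) *ᵥ u)
      ((g : Matrix (Fin n) (Fin n) F) *ᵥ v) = hermForm n F q u v := fun g hg => hRU hg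
  have hoff : ∀ s t, s ≠ t → hermForm n F q (B s) (B t) = 0 := by
    intro s t h
    obtain ⟨a, ha⟩ := Function.ne_iff.1 h
    have h1 := hpres _ (hP.zmem a) (B s) (B t)
    rw [hBz, hBz, herm_smul_left, herm_smul_right] at h1
    have hq : (bsign (t a) : F) ^ q = bsign (t a) := by
      have hodd : Odd q := by
        rcases Nat.even_or_odd q with he | ho
        · exfalso
          have h4 : Even (Fintype.card F) := by rw [hF]; exact he.pow_of_ne_zero two_ne_zero
          exact h2 (by
            have := FiniteField.even_card_iff_char_two.2 (Nat.even_iff.1 h4)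
            haveI : CharP F 2 := this ▸ ringChar.charP F
            exact CharP.cast_eq_zero F 2)
        · exact ho
      rcases bit_cases (t a) with h | h <;> simp [h, bsign, hodd.neg_one_pow]
    rw [hq] at h1
    rcases bit_cases (s a) with hs | hs <;> rcases bit_cases (t a) with ht | ht <;>
      simp [hs, ht, bsign] at h1 ha ⊢ <;> exact (mul_eq_zero.1
        (show (2 : F) * hermForm n F q (B s) (B t) = 0 by linear_combination -h1)).resolve_left h2
  have hdiag : ∀ s, hermForm n F q (B s) (B s) = hermForm n F q (B 0) (B 0) := by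
    intro s
    suffices h : ∀ S : Finset (Fin k), ∀ s : Fin k → ZMod 2, (∀ a, a ∉ S → s a = 0) →
        hermForm n F q (B s) (B s) = hermForm n F q (B 0) (B 0) from h Finset.univ s (by simp)
    intro S
    induction S using Finset.induction with
    | empty => intro s hs; rw [show s = 0 from funext fun a => hs a (by simp)]
    | insert a S ha ih =>
      intro s hs
      rcases bit_cases (s a) with h | h
      · exact ih s fun b hb => by
          by_cases e : b = a
          · rw [e, h]
          · exact hs b (by simp [e, hb])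
      · have h1 := hpres _ (hP.xmem a) (B s) (B s)
        rw [hBx] at h1
        rw [← h1]
        refine ih _ fun b hb => ?_
        by_cases e : b = a
        · rw [e, Pi.add_apply, h, Pi.single_eq_same]; decide
        · rw [Pi.add_apply, hs b (by simp [e, hb]), Pi.single_eq_of_ne e, add_zero]
  have hli := linearIndependent_orbit h2 hB0 hBz
  have hc : hermForm n F q (B 0) (B 0) ≠ 0 := by
    intro h0
    refine hB0 0 ?_
    have hspan : Submodule.span F (Set.range B) = ⊤ :=
      hli.span_eq_top_of_card_eq_finrank (by simp [hn])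
    refine eq_zero_of_forall_right hF fun v => ?_
    have hv : v ∈ Submodule.span F (Set.range B) := hspan ▸ Submodule.mem_top
    obtain ⟨c, rfl⟩ := (Submodule.mem_span_range_iff_exists_fun F).1 hv
    rw [herm_sum_right hF]
    refine Finset.sum_eq_zero fun s _ => ?_
    rw [herm_smul_right]
    by_cases h : (0 : Fin k → ZMod 2) = s
    · subst h; rw [h0, mul_zero]
    · rw [hoff 0 s h, mul_zero]
  obtain ⟨m, hm⟩ := exists_norm_eq hF (a := (hermForm n F q (B 0) (B 0))⁻¹)
    (by rw [inv_pow, herm_self_fixed hF])
  refine ⟨fun s => m • B s, fun s t => ?_, fun a s => ?_, fun a s => ?_⟩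
  · simp only
    split_ifs with h
    · subst h
      rw [herm_self_smul, hdiag s, hm, inv_mul_cancel₀ hc]
    · rw [herm_smul_left, herm_smul_right, hoff s t h, mul_zero, mul_zero]
  · simp only [Matrix.mulVec_smul, hBx]
  · simp only [Matrix.mulVec_smul, hBz]
    exact smul_comm _ _ _

/-- The change of basis for an indexing of the coordinates by bit strings. -/
theorem exists_frame (hF : Fintype.card F = q ^ 2) (h2 : (2 : F) ≠ 0) (hn : n = 2 ^ k)
    {R : Subgroup (GL (Fin n) F)} (hRU : R ≤ GU n F q) {x z : Fin k → GL (Fin n) F} (hP : Pairs R x z)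
    (e : (Fin k → ZMod 2) ≃ Fin n) :
    ∃ P ∈ GU n F q, ∀ a : Fin k,
      (x a : Matrix (Fin n) (Fin n) F) * (P : Matrix (Fin n) (Fin n) F) =
        (P : Matrix (Fin n) (Fin n) F) *
          Matrix.of (fun i j => if e.symm i = e.symm j + Pi.single a 1 then (1 : F) else 0) ∧
      (z a : Matrix (Fin n) (Fin n) F) * (P : Matrix (Fin n) (Fin n) F) =
        (P : Matrix (Fin n) (Fin n) F) * Matrix.diagonal fun j => (bsign (e.symm j a) : F) := by
  classical
  obtain ⟨B, hB, hBx, hBz⟩ := exists_orthonormal_orbit hF h2 hn hRU hP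
  let M : Matrix (Fin n) (Fin n) F := Matrix.of fun i j => B (e.symm j) i
  have hM : Preserves q M := by
    rw [preserves_iff_transpose_mul hF]
    ext i j
    rw [Matrix.one_apply]
    refine Eq.trans ?_ ((hB (e.symm i) (e.symm j)).trans (if_congr e.symm.injective.eq_iff rfl rfl))
    rfl
  refine ⟨(hM.isUnit hF).unit, (toGU hF hM).2, fun a => ⟨?_, ?_⟩⟩
  · rw [IsUnit.unit_spec]
    ext i j
    have h := congrFun (hBx a (e.symm j)) i
    rw [Matrix.mul_apply (M := M), Finset.sum_eq_single (e (e.symm j + Pi.single a 1))]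
    · simpa [M, Matrix.mul_apply, Matrix.mulVec, dotProduct] using h
    · intro b _ hb
      rw [Matrix.of_apply, if_neg (fun h => hb (by rw [← h, Equiv.apply_symm_apply])), mul_zero]
    · simp
  · rw [IsUnit.unit_spec]
    ext i j
    have h := congrFun (hBz a (e.symm j)) i
    rw [Matrix.mul_diagonal]
    simpa [M, Matrix.mul_apply, Matrix.mulVec, dotProduct, mul_comm] using h

end Cfsg.Agent.H12.CSix
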